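import Mathlib
import Cfsg.Agent.H29.Fi24T.B
import Cfsg.Agent.H29.Fi24

set_option autoImplicit false
set_option maxRecDepth 100000
set_option Elab.async false
set_option linter.all false

namespace H29.Fi24Q

def PT : List ℕ := [7, 12, 18, 35, 89, 227, 597, 91, 229, 1595, 3, 0]
def ws : List ℕ := [3, 2, 1, 3, 4, 5, 3, 7, 8, 3, 2, 1, 3, 4, 5, 3, 7, 8, 3, 2, 1, 3, 4, 5, 3, 7, 8, 3, 2, 1, 3, 4, 5, 3, 7, 8, 3, 2, 1, 3, 4, 5, 3, 7, 8, 3, 2, 1, 3, 4, 5, 3, 7, 8, 3, 2, 1, 3, 4, 5, 3, 7, 8, 3, 2, 1, 3, 4, 5, 3, 7, 8, 3, 2, 1, 3, 4, 5, 3, 7, 8, 3, 2, 1, 3, 4, 5, 3, 7, 8]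
def wx : List ℕ := [11, 10, 11, 0, 10, 11, 1, 0, 10, 11, 2, 1, 0, 10, 11, 3, 2, 1, 0, 10, 11, 4, 3, 2, 1, 0, 10, 11, 5, 4, 3, 2, 1, 0, 10, 11, 6, 5, 4, 3, 2, 1, 0, 10, 11, 9, 6, 5, 4, 3, 2, 1, 0, 10, 11, 1, 2, 3, 4, 5, 6, 7, 1, 2, 3, 4, 5, 6, 7, 1, 2, 3, 4, 5, 6, 7, 1, 2, 3, 4, 5, 6, 7, 1, 2, 3, 4, 5, 6, 7, 1, 2, 3, 4, 5, 6, 7, 1, 2, 3, 4, 5, 6, 7, 1, 2, 3, 4, 5, 6, 7, 1, 2, 3, 4, 5, 6, 7, 9, 6, 5, 4, 3, 2, 1, 0, 10, 11]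
def wl : List (List ℕ) := [[0, 1], [2, 3], [4, 5], [6, 9], [7, 8], [1, 2], [3, 4], [5, 6], [3, 7], [10, 11], [10, 11, 0, 10]]
noncomputable def nw : ℕ → Net := wNets (nth Net.nil Fi24T.nl) wl
theorem hn : NetsOK 306936 nw := Fi24T.hn.wNets wl

end H29.Fi24Q
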