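import Mathlib
import Cfsg.Agent.H29.Fi24Q.B

set_option autoImplicit false
set_option maxRecDepth 100000
set_option Elab.async false
set_option linter.all false

namespace H29.Fi24Q

theorem pU : (allL Fi24.cols fun c => chkPt (nth Net.nil Fi24T.nl) (nth [] Fi24.U c) 0 (nth 0 PT c)) = true := by decide +kernel
theorem s0 : chkPt (nth Net.nil Fi24T.nl) ws 7 7 = true := by decide +kernel
theorem s1 : chkPt (nth Net.nil Fi24T.nl) ws 12 12 = true := by decide +kernel
theorem s2 : chkPt (nth Net.nil Fi24T.nl) ws 18 18 = true := by decide +kernel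
theorem s3 : chkPt (nth Net.nil Fi24T.nl) ws 35 35 = true := by decide +kernel
theorem s4 : chkPt (nth Net.nil Fi24T.nl) ws 89 89 = true := by decide +kernel
theorem s5 : chkPt (nth Net.nil Fi24T.nl) ws 227 227 = true := by decide +kernel
theorem s6 : chkPt (nth Net.nil Fi24T.nl) ws 597 597 = true := by decide +kernel
theorem s7 : chkPt (nth Net.nil Fi24T.nl) ws 91 91 = true := by decide +kernel
theorem s8 : chkPt (nth Net.nil Fi24T.nl) ws 229 229 = true := by decide +kernel
theorem s9 : chkPt (nth Net.nil Fi24T.nl) ws 1595 1595 = true := by decide +kernel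
theorem s10 : chkPt (nth Net.nil Fi24T.nl) ws 3 3 = true := by decide +kernel
theorem s11 : chkPt (nth Net.nil Fi24T.nl) ws 0 0 = true := by decide +kernel

end H29.Fi24Q
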