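import Mathlib
import Cfsg.Agent.H29.Fi24Q.B

set_option autoImplicit false
set_option maxRecDepth 100000
set_option Elab.async false
set_option linter.all false

namespace H29.Fi24Q

theorem x1 : chkPt (nth Net.nil Fi24T.nl) wx 12 227 = true := by decide +kernel
theorem x2 : chkPt (nth Net.nil Fi24T.nl) wx 18 89 = true := by decide +kernel
theorem x3 : chkPt (nth Net.nil Fi24T.nl) wx 35 35 = true := by decide +kernel
theorem x4 : chkPt (nth Net.nil Fi24T.nl) wx 89 18 = true := by decide +kernel
theorem x5 : chkPt (nth Net.nil Fi24T.nl) wx 227 12 = true := by decide +kernel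
theorem x7 : chkPt (nth Net.nil Fi24T.nl) wx 91 91 = true := by decide +kernel
theorem x8 : chkPt (nth Net.nil Fi24T.nl) wx 229 229 = true := by decide +kernel
theorem pa : chkPt (nth Net.nil Fi24T.nl) [0, 11] 12 8 = true := by decide +kernel
theorem pl : chkPt (nth Net.nil Fi24T.nl) [11] 3 1 = true := by decide +kernel

end H29.Fi24Q
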