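import Mathlib
import Cfsg.Agent.H29.Fi24Q.B

set_option autoImplicit false
set_option maxRecDepth 100000
set_option Elab.async false
set_option linter.all false

namespace H29.Fi24Q

theorem prim0 : Reach nw [0, 1, 2, 3, 4, 5, 6, 7, 8] (primStart nw [9, 10]) (ones 306936) := reach_of_chk (r := 6) hn (by decide +kernel)
theorem prim9 : Reach nw (9 :: [0, 1, 2, 3, 4, 5, 6, 7, 8]) (bit 0) (ones 306936) := reach_of_chk (r := 6) hn (by decide +kernel)
theorem prim10 : Reach nw (10 :: [0, 1, 2, 3, 4, 5, 6, 7, 8]) (bit 0) (ones 306936) := reach_of_chk (r := 6) hn (by decide +kernel)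
theorem prim : Prim nw 306936 [0, 1, 2, 3, 4, 5, 6, 7, 8] [9, 10] := ⟨fix_zero_of_chk hn (by decide +kernel), prim0,
  List.forall_mem_cons.2 ⟨prim9, List.forall_mem_cons.2 ⟨prim10, fun _ h => absurd h List.not_mem_nil⟩⟩⟩

end H29.Fi24Q
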